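import Cfsg.Agent.EqLemmas

/-!
# Derangements of prime order

* `exists_derangement_of_transitive_pGroup`: a transitive faithful p-subgroup on a nontrivial set
  yields a derangement of order p.
* `pow_dvd_card_sylow_orbit`: if p^k divides the degree of a transitive group, p^k divides every
  orbit of a Sylow p-subgroup.
-/

namespace Cfsg.Agent.DerangeP

open MulAction

set_option autoImplicit false

variable {G : Type*} [Group G] [Finite G] {Ω : Type*} [MulAction G Ω] {p : ℕ} [Fact p.Prime]

theorem exists_derangement_of_transitive_pGroup [FaithfulSMul G Ω] (P : Subgroup G)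
    (hP : IsPGroup p P) (hne : P ≠ ⊥) (htr : ∀ a b : Ω, ∃ x ∈ P, x • a = b) :
    ∃ g : G, orderOf g = p ∧ ∀ ω : Ω, g • ω ≠ ω := by
  have : Nontrivial P := (Subgroup.nontrivial_iff_ne_bot P).2 hne
  have hnt := hP.center_nontrivial
  have hd : p ∣ Nat.card (Subgroup.center P) := by
    obtain ⟨n, hn⟩ := (hP.to_subgroup (Subgroup.center P)).exists_card_eq
    rw [hn]
    refine dvd_pow_self p ?_
    rintro rfl
    have := Finite.one_lt_card (α := Subgroup.center P)
    rw [hn, pow_zero] at this
    omega
  obtain ⟨z, hz⟩ := exists_prime_orderOf_dvd_card' p hd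
  refine ⟨((z : P) : G), ?_, ?_⟩
  · rw [Subgroup.orderOf_coe, Subgroup.orderOf_coe, hz]
  · intro ω hω
    have h1 : ((z : P) : G) = 1 := by
      refine eq_of_smul_eq_smul (α := Ω) fun b => ?_
      obtain ⟨x, hx, rfl⟩ := htr ω b
      have hc : x * ((z : P) : G) = ((z : P) : G) * x := by
        have := Subgroup.mem_center_iff.1 z.2 ⟨x, hx⟩
        exact congrArg Subtype.val this
      rw [one_smul, ← mul_smul, ← hc, mul_smul, hω]
    rw [show z = 1 from Subtype.ext (Subtype.ext h1), orderOf_one] at hz
    exact (Fact.out : p.Prime).one_lt.ne hz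

theorem pow_dvd_card_sylow_orbit [Finite Ω] [IsPretransitive G Ω] (P : Sylow p G) (k : ℕ)
    (hk : p ^ k ∣ Nat.card Ω) (ω : Ω) : p ^ k ∣ Nat.card (orbit (P : Subgroup G) ω) := by
  have hp : p.Prime := Fact.out
  obtain ⟨j, hj⟩ := P.2.card_orbit ω
  have hidx := Subgroup.index_mul_card (stabilizer G ω)
  rw [index_stabilizer_of_transitive] at hidx
  have h1 := Subgroup.index_mul_card (stabilizer (P : Subgroup G) ω)
  rw [index_stabilizer, ← Nat.card_coe_set_eq, hj] at h1
  let f : stabilizer (P : Subgroup G) ω →* stabilizer G ω :=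
    ((P : Subgroup G).subtype.comp (stabilizer (P : Subgroup G) ω).subtype).codRestrict _
      (fun x => x.2)
  have hf : Function.Injective f := fun x y h => Subtype.ext (Subtype.ext (congrArg Subtype.val h :))
  have h2 := Subgroup.card_dvd_of_injective f hf
  have hP := P.card_eq_multiplicity
  rw [hP] at h1
  set v := (Nat.card G).factorization p with hv
  obtain ⟨i, hi⟩ := (P.2.to_subgroup (stabilizer (P : Subgroup G) ω)).exists_card_eq
  rw [hi, ← pow_add] at h1
  have hij := Nat.pow_right_injective hp.two_le h1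
  rw [hi] at h2
  have h3 : p ^ (k + i) ∣ Nat.card G := by
    rw [pow_add, ← hidx]; exact mul_dvd_mul hk h2
  have h4 := (hp.pow_dvd_iff_le_factorization Nat.card_pos.ne').1 h3
  rw [hj]
  exact pow_dvd_pow p (by omega)

end Cfsg.Agent.DerangeP
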